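import Groth.Agent.Lib.FlatH4.FibreCritScheme
import Groth.Agent.Lib.FibDim14.Comp
import Groth.Agent.Lib.Branch14.UnrEtaleGlobal
import Groth.Agent.Lib.Depth.CM
import Groth.Agent.Lib.SchBasic.Basic
import Groth.Agent.Lib.Branch14.Corollaries
import Groth.Agent.Lib.EtaleNhd17.Basic
import Mathlib.RingTheory.Ideal.KrullsHeightTheorem
import Mathlib.RingTheory.KrullDimension.NonZeroDivisors

/-!
# Unramified morphisms into flat families with normal fibres
-/

set_option autoImplicit false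
set_option backward.isDefEq.respectTransparency.types false

universe u

open CategoryTheory CategoryTheory.Limits AlgebraicGeometry IsLocalRing

namespace Groth.Agent.NormFib5

theorem ringKrullDim_le_of_map_eq {R S : Type u} [CommRing R] [IsLocalRing R] [IsNoetherianRing R]
    [CommRing S] [IsLocalRing S] [IsNoetherianRing S] (φ : R →+* S)
    (hm : (maximalIdeal R).map φ = maximalIdeal S) : ringKrullDim S ≤ ringKrullDim R := by
  classical
  obtain ⟨s, hs, hcard⟩ := (maximalIdeal R).exists_finset_card_eq_height_of_isNoetherianRing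
  rw [← maximalIdeal_height_eq_ringKrullDim, ← maximalIdeal_height_eq_ringKrullDim, ← hcard]
  refine WithBot.coe_le_coe.2 (le_trans ?_ (Nat.cast_le.2 (Finset.card_image_le (f := φ) (s := s))))
  apply Ideal.height_le_card_of_mem_minimalPrimes_span_finset
  rw [Finset.coe_image, ← Ideal.map_span]
  refine ⟨⟨inferInstance, ?_⟩, fun P ⟨hP, hle⟩ hPm => ?_⟩
  · exact (Ideal.map_mono hs.1.2).trans hm.le
  · have h1 : maximalIdeal R ≤ P.comap φ := hs.2 ⟨hP.comap φ, Ideal.map_le_iff_le_comap.1 hle⟩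
      (IsLocalRing.le_maximalIdeal (hP.comap φ).ne_top)
    exact hm.ge.trans (Ideal.map_le_iff_le_comap.2 h1)

/-- An unramified local map to a ring of the same dimension, from a domain, is injective. -/
theorem injective_of_ringKrullDim_eq {R S : Type u} [CommRing R] [IsLocalRing R] [IsNoetherianRing R]
    [CommRing S] [IsLocalRing S] [IsNoetherianRing S] (φ : R →+* S)
    (hm : (maximalIdeal R).map φ = maximalIdeal S) (hd : ringKrullDim R = ringKrullDim S)
    (hR : IsDomain R) : Function.Injective φ := by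
  haveI := hR
  rw [injective_iff_map_eq_zero]
  intro a ha
  by_contra hne
  have haux : ¬ IsUnit a := fun h => not_isUnit_zero (M₀ := S) (ha ▸ h.map φ)
  have hI : Ideal.span {a} ≠ ⊤ := fun h => haux (Ideal.span_singleton_eq_top.1 h)
  haveI : Nontrivial (R ⧸ Ideal.span {a}) := Ideal.Quotient.nontrivial_iff.2 hI
  haveI : IsLocalRing (R ⧸ Ideal.span {a}) :=
    IsLocalRing.of_surjective' (Ideal.Quotient.mk _) Ideal.Quotient.mk_surjective
  let ψ : R ⧸ Ideal.span {a} →+* S := Ideal.Quotient.lift _ φ fun b hb => by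
    obtain ⟨c, rfl⟩ := Ideal.mem_span_singleton.1 hb
    rw [map_mul, ha, zero_mul]
  have hψ : (maximalIdeal (R ⧸ Ideal.span {a})).map ψ = maximalIdeal S := by
    rw [← IsLocalRing.map_maximalIdeal_of_surjective _ Ideal.Quotient.mk_surjective, Ideal.map_map,
      Ideal.Quotient.lift_comp_mk]
    exact hm
  have h1 := ringKrullDim_le_of_map_eq ψ hψ
  have h2 := ringKrullDim_quotient_succ_le_of_nonZeroDivisor (mem_nonZeroDivisors_of_ne_zero hne)
  rw [hd] at h2
  obtain ⟨d, hd'⟩ : ∃ d : ℕ, ringKrullDim S = (d : WithBot ℕ∞) := by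
    obtain ⟨d, hd⟩ := ENat.ne_top_iff_exists.1 (Ideal.height_ne_top (IsLocalRing.maximalIdeal.isMaximal S).ne_top)
    exact ⟨d, by rw [← maximalIdeal_height_eq_ringKrullDim, ← hd]; rfl⟩
  obtain ⟨e, he⟩ : ∃ e : ℕ, ringKrullDim (R ⧸ Ideal.span {a}) = (e : WithBot ℕ∞) := by
    obtain ⟨d, hd⟩ := ENat.ne_top_iff_exists.1
      (Ideal.height_ne_top (IsLocalRing.maximalIdeal.isMaximal (R ⧸ Ideal.span {a})).ne_top)
    exact ⟨d, by rw [← maximalIdeal_height_eq_ringKrullDim, ← hd]; rfl⟩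
  rw [hd', he] at h1 h2
  norm_cast at h1 h2
  omega

variable {X Y S : Scheme.{u}} (f : X ⟶ Y) (g : Y ⟶ S)

theorem isPullback_fibreMapAt' {K : Type u} [Field K] (a : Spec (CommRingCat.of K) ⟶ S) :
    IsPullback (pullback.fst (f ≫ g) a) (FlatH4.fibreMapAt' f g a) f (pullback.fst g a) := by
  have h1 : FlatH4.fibreMapAt' f g a ≫ pullback.snd g a = pullback.snd (f ≫ g) a := by
    simp [FlatH4.fibreMapAt', pullback.lift_snd]
  have h2 : pullback.fst (f ≫ g) a ≫ f = FlatH4.fibreMapAt' f g a ≫ pullback.fst g a := by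
    simp [FlatH4.fibreMapAt', pullback.lift_fst]
  refine IsPullback.of_bot ?_ h2 (IsPullback.of_hasPullback g a)
  rw [h1]
  exact IsPullback.of_hasPullback (f ≫ g) a

theorem rd_eq_zero_of_unramified_nhd [LocallyOfFiniteType f] {x : X}
    (hunr : ∃ U : X.Opens, x ∈ U ∧ FormallyUnramified (U.ι ≫ f)) : FibDim14.rd f x = 0 := by
  obtain ⟨U, hxU, hU⟩ := hunr
  haveI := Branch14.locallyQuasiFinite_of_formallyUnramified (U.ι ≫ f)
  have h := FibDim14.rd_comp U.ι f ⟨x, hxU⟩
  rw [FibDim14.rd_of_surjectiveOnStalks U.ι, add_zero] at h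
  have h0 := FibDim14.rd_le_fibreDimAt (U.ι ≫ f) (specializes_refl (⟨x, hxU⟩ : U)) rfl
  rw [FibDim14.fibreDimAt_eq_zero] at h0
  have h1 : FibDim14.rd (U.ι ≫ f) ⟨x, hxU⟩ = 0 := Nat.le_zero.1 (by exact_mod_cast h0)
  exact h.symm.trans h1

theorem etale_nhd [LocallyOfFinitePresentation g] (h : X ⟶ S) [LocallyOfFinitePresentation h]
    (w : f ≫ g = h) (x : X) (hflat : (h.stalkMap x).hom.Flat)
    (hnorm : IsDomain ((g.fiber (g.base (f.base x))).presheaf.stalk (g.asFiber (f.base x))) ∧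
      IsIntegrallyClosed ((g.fiber (g.base (f.base x))).presheaf.stalk (g.asFiber (f.base x))))
    (hunr : ∃ U : X.Opens, x ∈ U ∧ FormallyUnramified (U.ι ≫ f))
    (hdim : FlatMor.fibreDimAt h x = FlatMor.fibreDimAt g (f.base x)) :
    ∃ U : X.Opens, x ∈ U ∧ Etale (U.ι ≫ f) := by
  subst w
  haveI : LocallyOfFinitePresentation f := SchBasic.locallyOfFinitePresentation_of_comp f g
  let s := (f ≫ g) x
  let a := S.fromSpecResidueField s
  let φ := FlatH4.fibreMapAt' f g a
  let z : ↥(pullback (f ≫ g) a) := (f ≫ g).asFiber x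
  have hzx : pullback.fst (f ≫ g) a z = x := (f ≫ g).fiberι_asFiber x
  have hz : φ z = g.asFiber (f x) := by
    apply (g.fiberι s).isEmbedding.injective
    show pullback.fst g a (φ z) = g.fiberι (g (f x)) (g.asFiber (f x))
    rw [g.fiberι_asFiber]
    have e : (φ ≫ pullback.fst g a) z = (pullback.fst (f ≫ g) a ≫ f) z :=
      congrArg (fun m : pullback (f ≫ g) a ⟶ Y => m z) (isPullback_fibreMapAt' f g a).w.symm
    exact e.trans (congrArg (fun t => f t) hzx)
  have hbc := isPullback_fibreMapAt' f g a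
  haveI : LocallyOfFinitePresentation φ := MorphismProperty.of_isPullback hbc inferInstance
  obtain ⟨U, hxU, hU⟩ := hunr
  have hUz : z ∈ pullback.fst (f ≫ g) a ⁻¹ᵁ U := by
    show pullback.fst (f ≫ g) a z ∈ U
    rw [hzx]; exact hxU
  haveI hunr' : FormallyUnramified ((pullback.fst (f ≫ g) a ⁻¹ᵁ U).ι ≫ φ) :=
    MorphismProperty.of_isPullback ((isPullback_morphismRestrict (pullback.fst (f ≫ g) a) U).paste_vert hbc) hU
  have hst := @EtaleNhd17.formallyUnramified_stalkMap_of_nhd _ _ φ z _ hUz hunr'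
  have hmax := ((EtaleNhd17.formallyUnramified_stalkMap_iff_map_eq φ z).1 hst).2
  haveI : IsLocallyNoetherian (g.fiber s) := LocallyOfFiniteType.isLocallyNoetherian (FibDim14.toPt g s)
  haveI : IsLocallyNoetherian ((f ≫ g).fiber s) := LocallyOfFiniteType.isLocallyNoetherian (FibDim14.toPt (f ≫ g) s)
  haveI : IsLocallyNoetherian (pullback g a) := ‹IsLocallyNoetherian (g.fiber s)›
  haveI : IsLocallyNoetherian (pullback (f ≫ g) a) := ‹IsLocallyNoetherian ((f ≫ g).fiber s)›
  haveI hdom : IsDomain ((pullback g a).presheaf.stalk (φ z)) := by rw [hz]; exact hnorm.1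
  haveI hic : IsIntegrallyClosed ((pullback g a).presheaf.stalk (φ z)) := by rw [hz]; exact hnorm.2
  have hrd : FibDim14.rd (f ≫ g) x = FibDim14.rd g (f x) := by
    rw [FibDim14.rd_comp, rd_eq_zero_of_unramified_nhd f ⟨U, hxU, hU⟩, add_zero]
  have hd1 := FibDim14.localDim_asFiber_eq (f ≫ g) x
  have hd2 := FibDim14.localDim_asFiber_eq g (f x)
  rw [hrd, hdim, hd2] at hd1
  have hdimeq : ringKrullDim ((pullback g a).presheaf.stalk (φ z)) =
      ringKrullDim ((pullback (f ≫ g) a).presheaf.stalk z) := by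
    rw [hz]
    exact le_antisymm (DepthLib.withBot_add_coe_cancel _ hd1.le) (DepthLib.withBot_add_coe_cancel _ hd1.ge)
  have hinj : Function.Injective (φ.stalkMap z) :=
    injective_of_ringKrullDim_eq (φ.stalkMap z).hom hmax hdimeq hdom
  obtain ⟨W, hzW, hW⟩ := Branch14.exists_etale_nhd φ z hdom
    (@Branch14.isGeomUnibranch_of_isIntegrallyClosed ((pullback g a).presheaf.stalk (φ z)) _ _ hdom hic) hinj
    (Or.inl inferInstance) ⟨_, hUz, hunr'⟩
  have hflφ : (φ.stalkMap z).hom.Flat :=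
    Descend.flat_stalkMap_of_comp W.ι φ ⟨z, hzW⟩ (Flat.stalkMap _ _) (Flat.stalkMap _ _)
  have hflf : (f.stalkMap x).hom.Flat :=
    FlatH4.flat_stalkMap_of_eq f hzx (FlatH4.flat_of_flat_fibreMapAt' f g a z
      (FlatH4.flat_stalkMap_of_eq (f ≫ g) hzx.symm hflat) hflφ)
  exact Descend.etale_nhd_of_flat_of_unramified f x hflf ⟨U, hxU, hU⟩

theorem etale_nhd_iff [LocallyOfFinitePresentation g] (h : X ⟶ S) [LocallyOfFinitePresentation h]
    (w : f ≫ g = h) (x : X) (hflat : (h.stalkMap x).hom.Flat)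
    (hnorm : IsDomain ((g.fiber (g.base (f.base x))).presheaf.stalk (g.asFiber (f.base x))) ∧
      IsIntegrallyClosed ((g.fiber (g.base (f.base x))).presheaf.stalk (g.asFiber (f.base x)))) :
    (∃ U : X.Opens, x ∈ U ∧ Etale (U.ι ≫ f)) ↔
      (∃ U : X.Opens, x ∈ U ∧ FormallyUnramified (U.ι ≫ f)) ∧
        FlatMor.fibreDimAt h x = FlatMor.fibreDimAt g (f.base x) := by
  refine ⟨fun ⟨U, hxU, hU⟩ => ⟨⟨U, hxU, inferInstance⟩, ?_⟩, fun hh => etale_nhd f g h w x hflat hnorm hh.1 hh.2⟩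
  subst w
  have h1 := FibDim14.fibreDimAt_etale_comp (U.ι ≫ f) g (⟨x, hxU⟩ : U)
  have h2 := FibDim14.fibreDimAt_etale_comp U.ι (f ≫ g) (⟨x, hxU⟩ : U)
  rw [Category.assoc] at h1
  exact h2.symm.trans h1

end Groth.Agent.NormFib5
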